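import Mathlib

/-!
The finite computations behind the order-5 case: the pentagon in `F₂⁴`.
-/

set_option autoImplicit false

namespace Cfsg.Agent.ThreeInvol

/-! ### The pentagon -/

/-- The five vectors of an orbit in coordinates. -/
def orb : Fin 5 → Bool × Bool × Bool × Bool :=
  ![(true, false, false, false), (false, true, false, false), (false, false, true, false),
    (false, false, false, true), (true, true, true, true)]

/-- Sums of two cyclically adjacent vectors. -/
def adj : Fin 5 → Bool × Bool × Bool × Bool :=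
  ![(true, true, false, false), (false, true, true, false), (false, false, true, true),
    (true, true, true, false), (false, true, true, true)]

/-- Addition of coordinates. -/
def vadd (a b : Bool × Bool × Bool × Bool) : Bool × Bool × Bool × Bool :=
  (a.1 ^^ b.1, a.2.1 ^^ b.2.1, a.2.2.1 ^^ b.2.2.1, a.2.2.2 ^^ b.2.2.2)

/-- Basis images are admissible. -/
def admissible (t : Fin 5 × Fin 5 × Fin 5 × Fin 5) : Bool :=
  let i := orb t.1
  let j := orb t.2.1
  let k := orb t.2.2.1
  let l := orb t.2.2.2
  decide (∃ m, adj m = vadd i j) && decide (∃ m, adj m = vadd j k) && decide (∃ m, adj m = vadd k l) &&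
    decide (∃ m, orb m = vadd (vadd i j) (vadd k l))

theorem card_admissible :
    (Finset.univ.filter fun t : Fin 5 × Fin 5 × Fin 5 × Fin 5 => admissible t = true).card ≤ 10 := by
  decide +kernel

theorem orbits_cover : ∀ b : Bool × Bool × Bool × Bool, b = (false, false, false, false) ∨
    (∃ i, orb i = b) ∨ (∃ i, adj i = b) ∨ ∃ i : Fin 5, vadd (orb i) (orb (i + 2)) = b := by decide +kernel

theorem orb_shift : ∀ i : Fin 5, vadd (orb i) (orb (i + 1)) = adj i := by decide +kernel

theorem prime_table : ∀ n < 5, ∀ k < n, ∀ p < 17, 3 ≤ n → ¬ 2 ∣ p → ¬ 3 ∣ p → 1 < p →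
    p ∣ 2 ^ n - 2 ^ k → (p = 7 ∧ n - k = 3) ∨ (p = 5 ∧ n = 4 ∧ k = 0) := by
  have key : ((List.range 5).all fun n => (List.range n).all fun k => (List.range 17).all fun p =>
      !(decide (3 ≤ n) && (p % 2 != 0) && (p % 3 != 0) && decide (1 < p) && ((2 ^ n - 2 ^ k) % p == 0)) ||
        (p == 7 && n - k == 3) || (p == 5 && n == 4 && k == 0)) = true := by decide +kernel
  intro n hn k hk p hp h3 h2 h3' h1 hd
  have h := List.all_eq_true.1 (List.all_eq_true.1 (List.all_eq_true.1 key n (List.mem_range.2 hn)) k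
    (List.mem_range.2 hk)) p (List.mem_range.2 hp)
  have e2 : p % 2 ≠ 0 := fun e => h2 (Nat.dvd_of_mod_eq_zero e)
  have e3 : p % 3 ≠ 0 := fun e => h3' (Nat.dvd_of_mod_eq_zero e)
  have ed : (2 ^ n - 2 ^ k) % p = 0 := Nat.mod_eq_zero_of_dvd hd
  simpa [h3, e2, e3, h1, ed, and_assoc] using h

end Cfsg.Agent.ThreeInvol
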