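import Cfsg.Agent.Lib.ThreeInvol.Quadratic
import Cfsg.Agent.Lib.ThreeInvol.Comb

/-!
A group of automorphisms preserving a quadratic map with at most one non-trivial zero into a group
of order at most 4 (at most 2 if there is a zero) is solvable.
-/

set_option autoImplicit false
set_option linter.style.haveILetI false
set_option linter.unnecessarySeqFocus false

namespace Cfsg.Agent.ThreeInvol

open scoped Classical

variable {V : Type*} [Group V] {W : Type*} [CommGroup W]

/-- Constants have every degree. -/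
theorem Deg.const : ∀ (n : ℕ) (c : ZMod 2), Deg n (fun _ : V => c)
  | 0, _ => fun _ _ => rfl
  | n + 1, c => fun _ => by
    show Deg n (fun _ : V => c + c)
    exact Deg.const n _

/-- The homomorphism with kernel a subgroup of index 2. -/
theorem exists_hom_of_index (M : Subgroup W) (h : M.index = 2) :
    ∃ lam : W →* Multiplicative (ZMod 2), ∀ w, lam w = 1 → w ∈ M := by
  refine ⟨MonoidHom.mk' (fun w => if w ∈ M then 1 else Multiplicative.ofAdd 1) fun a b => ?_, fun w hw => ?_⟩
  · have hiff : a * b ∈ M ↔ (a ∈ M ↔ b ∈ M) := Subgroup.mul_mem_iff_of_index_two h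
    by_cases ha : a ∈ M <;> by_cases hb : b ∈ M <;> simp [hiff, ha, hb] <;> rfl
  · by_contra hn
    simp [hn] at hw

theorem exists_two_homs [Finite W] (hsq : ∀ w : W, w * w = 1) (hW : Nat.card W ≤ 4) :
    ∃ l₁ l₂ : W →* Multiplicative (ZMod 2), (∀ w, l₁ w = 1 → l₂ w = 1 → w = 1) ∧
      (Nat.card W ≤ 2 → ∀ w, l₁ w = 1 → w = 1) := by
  have hp : IsPGroup 2 W := fun w => ⟨1, by rw [pow_one, pow_two, hsq]⟩
  haveI : Fact (Nat.Prime 2) := ⟨Nat.prime_two⟩
  obtain ⟨k, hk⟩ := IsPGroup.iff_card.1 hp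
  have hk2 : k ≤ 2 := by
    by_contra hc
    have : 2 ^ 3 ≤ 2 ^ k := Nat.pow_le_pow_right (by norm_num) (by omega)
    omega
  have hcard2 : ∀ a : W, a ≠ 1 → Nat.card (Subgroup.zpowers a) = 2 := fun a ha => by
    rw [Nat.card_zpowers, orderOf_eq_prime (by rw [pow_two, hsq]) ha]
  interval_cases k
  · haveI : Subsingleton W := (Nat.card_eq_one_iff_unique.1 (by simpa using hk)).1
    exact ⟨1, 1, fun w _ _ => Subsingleton.elim _ _, fun _ w _ => Subsingleton.elim _ _⟩
  · obtain ⟨lam, hlam⟩ := exists_hom_of_index (⊥ : Subgroup W) (by rw [Subgroup.index_bot, hk]; norm_num)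
    exact ⟨lam, lam, fun w h _ => hlam w h, fun _ w h => hlam w h⟩
  · haveI : Nontrivial W := Finite.one_lt_card_iff_nontrivial.1 (by rw [hk]; norm_num)
    obtain ⟨a, ha⟩ := exists_ne (1 : W)
    obtain ⟨b, hb⟩ : ∃ b, b ∉ Subgroup.zpowers a := by
      by_contra hc
      push Not at hc
      have := Subgroup.card_le_of_le (show (⊤ : Subgroup W) ≤ Subgroup.zpowers a from fun x _ => hc x)
      rw [Subgroup.card_top, hk, hcard2 a ha] at this
      omega
    have hidx : ∀ c : W, c ≠ 1 → (Subgroup.zpowers c).index = 2 := fun c hc => by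
      have := (Subgroup.zpowers c).card_mul_index
      rw [hcard2 c hc, hk] at this
      omega
    have hb1 : b ≠ 1 := fun e => hb (e ▸ one_mem _)
    obtain ⟨l₁, h₁⟩ := exists_hom_of_index _ (hidx a ha)
    obtain ⟨l₂, h₂⟩ := exists_hom_of_index _ (hidx b hb1)
    refine ⟨l₁, l₂, fun w e₁ e₂ => ?_, fun h => absurd h (by rw [hk]; norm_num)⟩
    by_contra hw
    have hz : ∀ c : W, c ≠ 1 → w ∈ Subgroup.zpowers c → Subgroup.zpowers w = Subgroup.zpowers c :=
      fun c hc hwc => Subgroup.eq_of_le_of_card_ge (Subgroup.zpowers_le.2 hwc) (by rw [hcard2 c hc, hcard2 w hw])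
    have e := (hz a ha (h₁ w e₁)).symm.trans (hz b hb1 (h₂ w e₂))
    exact hb (e ▸ Subgroup.mem_zpowers b)

namespace QMap

variable (Q : QMap V W)

/-- The indicator of `lam ∘ q = 1`. -/
def ind (lam : W →* Multiplicative (ZMod 2)) (v : V) : ZMod 2 := 1 + Multiplicative.toAdd (lam (Q.q v))

theorem deg_ind (lam : W →* Multiplicative (ZMod 2)) : Deg 2 (Q.ind lam) :=
  Deg.add 2 (Deg.const 2 1) (Q.deg_comp lam)

theorem ind_eq_zero {lam : W →* Multiplicative (ZMod 2)} {v : V} (h : lam (Q.q v) ≠ 1) : Q.ind lam v = 0 := by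
  have key : ∀ z : ZMod 2, z ≠ 0 → 1 + z = 0 := by decide
  exact key _ fun e => h (toAdd_eq_zero.1 e)

/-- The bound on `V`. -/
theorem card_le [Finite V] [Finite W] (hW : Nat.card W ≤ 4)
    (h0 : ∀ v v', v ≠ 1 → v' ≠ 1 → Q.q v = 1 → Q.q v' = 1 → v = v')
    (h0' : (∃ v, v ≠ 1 ∧ Q.q v = 1) → Nat.card W ≤ 2) : Nat.card V ≤ 16 := by
  by_contra hV
  obtain ⟨l₁, l₂, hsep, hsep1⟩ := exists_two_homs Q.sqW hW
  by_cases hz : ∃ v, v ≠ 1 ∧ Q.q v = 1
  · obtain ⟨v0, hv0, hq0⟩ := hz
    obtain ⟨l, hl, hi, -, hU⟩ := exists_indep Q.sqV ⊤ {v0} (by simpa using Ne.symm hv0) 3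
      (by rw [Subgroup.card_top, Finset.card_singleton]; omega)
    have h1 := diffSum_deg 2 l _ hl (Q.deg_ind l₁)
    have h2 := diffSum_eq_one Q.sqV l (Q.ind l₁) hi (by simp [ind, Q.q_one]) fun v hv hv1 =>
      Q.ind_eq_zero fun e => hU v0 (Finset.mem_singleton_self _)
        (h0 v v0 hv1 hv0 (hsep1 (h0' ⟨v0, hv0, hq0⟩) _ e) hq0 ▸ hv)
    rw [h1] at h2
    exact zero_ne_one h2
  · push Not at hz
    obtain ⟨l, hl, hi, -, -⟩ := exists_indep Q.sqV ⊤ ∅ (by simp) 5
      (by rw [Subgroup.card_top, Finset.card_empty]; omega)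
    have hd : Deg 4 (fun v => Q.ind l₁ v * Q.ind l₂ v) :=
      Deg.mul Q.sqV 4 2 2 rfl (Q.deg_ind l₁) (Q.deg_ind l₂)
    have h1 := diffSum_deg 4 l _ hl hd
    have h2 := diffSum_eq_one Q.sqV l (fun v => Q.ind l₁ v * Q.ind l₂ v) hi (by simp [ind, Q.q_one])
      fun v _ hv1 => by
        by_cases e₁ : l₁ (Q.q v) = 1
        · simp [Q.ind_eq_zero fun e₂ => hz v hv1 (hsep _ e₁ e₂)]
        · simp [Q.ind_eq_zero e₁]
    rw [h1] at h2
    exact zero_ne_one h2

end QMap

/-! ### Automorphisms of prime order -/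

theorem pow_apply_fixed {σ : MulAut V} {p i : ℕ} (hp : p.Prime) (hσ : σ ^ p = 1) (hi : 0 < i) (hip : i < p)
    {u : V} (h : (σ ^ i) u = u) : σ u = u := by
  have hcop : Nat.Coprime i (orderOf σ) := by
    rcases (Nat.dvd_prime hp).1 (orderOf_dvd_of_pow_eq_one hσ) with e | e <;> rw [e]
    · exact Nat.coprime_one_right _
    · exact ((hp.coprime_iff_not_dvd).2 fun hd => absurd (Nat.le_of_dvd hi hd) (by omega)).symm
  obtain ⟨m, hm⟩ := exists_pow_eq_self_of_coprime hcop
  let H : Subgroup (MulAut V) :=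
    { carrier := {s | s u = u}
      one_mem' := rfl
      mul_mem' := fun {a b} ha hb => by
        show a (b u) = u
        rw [hb]; exact ha
      inv_mem' := fun {a} ha => by
        show a⁻¹ u = u
        conv_lhs => rw [← ha]
        exact a.symm_apply_apply u }
  have hmem : (σ ^ i) ^ m ∈ H := pow_mem (show σ ^ i ∈ H from h) m
  rw [hm] at hmem
  exact hmem

theorem card_fixed_modEq_prime [Finite V] {σ : MulAut V} {p : ℕ} [Fact p.Prime] (hσ : σ ^ p = 1) :
    Nat.card V ≡ Nat.card {v : V // σ v = v} [MOD p] := by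
  haveI : Fintype V := Fintype.ofFinite V
  let f : Function.End V := fun v => σ v
  have hiter : ∀ (n : ℕ) (v : V), (f ^ n) v = (σ ^ n) v := by
    intro n
    induction n with
    | zero => intro v; rfl
    | succ n ih => intro v; rw [pow_succ, pow_succ, MulAut.mul_apply]; exact ih (σ v)
  have hf : f ^ p ^ 1 = 1 := by
    funext v
    rw [pow_one, hiter, hσ]
    rfl
  have h := Equiv.Perm.card_fixedPoints_modEq (p := p) (n := 1) hf
  rw [← Nat.card_eq_fintype_card, ← Nat.card_eq_fintype_card] at h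
  exact h

/-- The fixed points as a subgroup. -/
def fixedSubgroup (σ : MulAut V) : Subgroup V where
  carrier := {v | σ v = v}
  one_mem' := map_one σ
  mul_mem' := fun {a b} ha hb => by
    show σ (a * b) = a * b
    rw [map_mul, ha, hb]
  inv_mem' := fun {a} ha => by
    show σ a⁻¹ = a⁻¹
    rw [map_inv, ha]

set_option maxHeartbeats 1000000 in
/-- The main case analysis. -/
theorem QMap.solvable_of_preserves [Finite V] [Finite W] (Q : QMap V W) (hW : Nat.card W ≤ 4)
    (h0 : ∀ v v', v ≠ 1 → v' ≠ 1 → Q.q v = 1 → Q.q v' = 1 → v = v')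
    (h0' : (∃ v, v ≠ 1 ∧ Q.q v = 1) → Nat.card W ≤ 2)
    {A : Type*} [Group A] [Finite A] (ρ : A →* MulAut V) (hρ : Function.Injective ρ)
    (hpres : ∀ a v, Q.q (ρ a v) = Q.q v) : Group.IsSolvable A := by
  haveI : Fact (Nat.Prime 2) := ⟨Nat.prime_two⟩
  have hVp : IsPGroup 2 V := fun v => ⟨1, by rw [pow_one, pow_two, Q.sqV]⟩
  obtain ⟨n, hn⟩ := IsPGroup.iff_card.1 hVp
  have hle := Q.card_le hW h0 h0'
  rw [hn] at hle
  have hn4 : n ≤ 4 := (Nat.pow_le_pow_iff_right (le_refl 2)).1 (show 2 ^ n ≤ 2 ^ 4 from hle)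
  by_cases hn3 : n ≤ 2
  · -- small `V`
    refine SolvableAut.isSolvable_of_dvd_24 ?_
    have hd : Nat.card A ∣ Nat.card (Equiv.Perm V) :=
      Subgroup.card_dvd_of_injective ((MulAut.toPerm V).comp ρ) fun a b e =>
        hρ (MulEquiv.ext fun x => Equiv.congr_fun e x)
    rw [Nat.card_perm, hn] at hd
    exact hd.trans (by interval_cases n <;> decide)
  by_cases hprimes : ∀ p : ℕ, p.Prime → p ∣ Nat.card A → p = 2 ∨ p = 3
  · obtain ⟨a, m, hm, hAm⟩ := Nat.exists_eq_pow_mul_and_not_dvd (Nat.card_pos (α := A)).ne' 2 (by norm_num)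
    have hm0 : m ≠ 0 := fun e => hm (e ▸ dvd_zero 2)
    obtain ⟨b, r, hr, hmr⟩ := Nat.exists_eq_pow_mul_and_not_dvd hm0 3 (by norm_num)
    obtain rfl : r = 1 := by
      by_contra hr1
      obtain ⟨p, hp, hpr⟩ := Nat.exists_prime_and_dvd hr1
      have hpm : p ∣ m := hmr ▸ hpr.mul_left _
      rcases hprimes p hp (hAm ▸ hpm.mul_left _) with rfl | rfl
      · exact hm hpm
      · exact hr hpr
    exact CharInt.isSolvable_of_card_eq Nat.prime_two Nat.prime_three (a := a) (b := b)
      (by rw [hAm, hmr, mul_one])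
  push Not at hprimes
  obtain ⟨p, hp, hpA, hp2, hp3⟩ := hprimes
  haveI : Fact p.Prime := ⟨hp⟩
  obtain ⟨g, hg⟩ := exists_prime_orderOf_dvd_card' p hpA
  set σ := ρ g with hσdef
  have hσp : σ ^ p = 1 := by rw [hσdef, ← map_pow, ← hg, pow_orderOf_eq_one, map_one]
  have hσ1 : σ ≠ 1 := fun e => by
    have : g = 1 := hρ (e.trans (map_one ρ).symm)
    rw [this, orderOf_one] at hg
    exact hp.one_lt.ne hg
  have hmod := card_fixed_modEq_prime hσp
  obtain ⟨k, hk⟩ := IsPGroup.iff_card.1 (hVp.to_subgroup (fixedSubgroup σ))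
  have hkn : k < n := by
    have hne : fixedSubgroup σ ≠ ⊤ := fun e => hσ1 (MulEquiv.ext fun v => (e ▸ Subgroup.mem_top v : v ∈ fixedSubgroup σ))
    have hlt : Nat.card (fixedSubgroup σ) < Nat.card V := by
      refine lt_of_le_of_ne (Subgroup.card_le_card_group _) fun e => hne ?_
      exact Subgroup.eq_top_of_card_eq _ e
    rw [hk, hn] at hlt
    exact (Nat.pow_lt_pow_iff_right (by norm_num)).1 hlt
  rw [hn, show Nat.card {v : V // σ v = v} = 2 ^ k from hk] at hmod
  have hdvd : p ∣ 2 ^ n - 2 ^ k :=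
    (Nat.modEq_iff_dvd' (Nat.pow_le_pow_right (by norm_num) hkn.le)).1 hmod.symm
  have hp57 : (p = 7 ∧ n - k = 3) ∨ (p = 5 ∧ n = 4 ∧ k = 0) := by
    have hle16 : p ≤ 16 := by
      refine (Nat.le_of_dvd (Nat.sub_pos_of_lt (Nat.pow_lt_pow_right (by norm_num) hkn)) hdvd).trans ?_
      exact (Nat.sub_le _ _).trans ((Nat.pow_le_pow_right (by norm_num) hn4).trans (by norm_num))
    exact prime_table n (by omega) k hkn p (by omega) (by omega)
      (fun h => hp2 ((hp.eq_one_or_self_of_dvd 2 h).resolve_left (by norm_num)).symm)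
      (fun h => hp3 ((hp.eq_one_or_self_of_dvd 3 h).resolve_left (by norm_num)).symm) hp.one_lt hdvd
  have hinvar : ∀ i : ℕ, ∀ v, Q.q ((σ ^ i) v) = Q.q v := fun i v => by
    rw [hσdef, ← map_pow]; exact hpres _ v
  rcases hp57 with ⟨rfl, hnk⟩ | ⟨rfl, rfl, rfl⟩
  · -- order 7: one orbit on a subgroup of order 8
    exfalso
    let d : V →* V := MonoidHom.mk' (fun v => v * σ v) fun a b => by
      rw [map_mul]
      calc a * b * (σ a * σ b) = a * (b * σ a) * σ b := by group
        _ = a * (σ a * b) * σ b := by rw [comm_of_sq Q.sqV b]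
        _ = a * σ a * (b * σ b) := by group
    have hker : d.ker = fixedSubgroup σ := by
      ext v
      show v * σ v = 1 ↔ σ v = v
      exact ⟨fun e => mul_left_cancel (e.trans (Q.sqV v).symm), fun e => by rw [e, Q.sqV]⟩
    have hR : Nat.card d.range = 8 := by
      have h1 := d.ker.card_mul_index
      rw [Subgroup.index_ker, hker, hk, hn, show n = k + 3 by omega, pow_add] at h1
      exact Nat.eq_of_mul_eq_mul_left (by positivity) h1
    have hnofix : ∀ u ∈ d.range, σ u = u → u = 1 := by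
      rintro _ ⟨v, rfl⟩ hu
      have he : σ v = v * d v := by
        show σ v = v * (v * σ v)
        rw [← mul_assoc, Q.sqV, one_mul]
      have hi : ∀ i, (σ ^ i) v = v * d v ^ i := by
        intro i
        induction i with
        | zero => simp
        | succ i ih => rw [pow_succ', MulAut.mul_apply, ih, map_mul, map_pow, hu, he, pow_succ', mul_assoc]
      have h7 := hi 7
      rw [hσp, MulAut.one_apply, eq_comm, mul_eq_left] at h7
      have h2 : d v * d v = 1 := Q.sqV _
      calc d v = (d v * d v) * (d v * d v) * (d v * d v) * d v := by rw [h2, one_mul, one_mul, one_mul]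
        _ = d v ^ 7 := by simp only [pow_succ, pow_zero, one_mul, mul_assoc]
        _ = 1 := h7
    obtain ⟨u, hu, hu1⟩ : ∃ u ∈ d.range, u ≠ 1 := by
      haveI : Nontrivial d.range := Finite.one_lt_card_iff_nontrivial.1 (by rw [hR]; norm_num)
      obtain ⟨u, hu⟩ := exists_ne (1 : d.range)
      exact ⟨u, u.2, fun e => hu (Subtype.ext e)⟩
    have hinvR : ∀ i : ℕ, ∀ w ∈ d.range, (σ ^ i) w ∈ d.range := by
      rintro i _ ⟨v, rfl⟩
      refine ⟨(σ ^ i) v, ?_⟩
      show (σ ^ i) v * σ ((σ ^ i) v) = (σ ^ i) (v * σ v)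
      rw [map_mul, ← MulAut.mul_apply, ← MulAut.mul_apply, ← pow_succ, ← pow_succ']
    haveI : Fintype V := Fintype.ofFinite V
    let orbit : Finset V := (Finset.range 7).image fun i => (σ ^ i) u
    have hinj : orbit.card = 7 := by
      rw [Finset.card_image_of_injOn, Finset.card_range]
      have hkey : ∀ i j : ℕ, i < j → j < 7 → (σ ^ i) u ≠ (σ ^ j) u := by
        intro i j hlt hj hij
        have h1 : (σ ^ (j - i)) u = u := by
          have h2 : (σ ^ j) u = (σ ^ i) ((σ ^ (j - i)) u) := by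
            rw [← MulAut.mul_apply, ← pow_add, Nat.add_sub_cancel' hlt.le]
          exact (σ ^ i).injective (h2.symm.trans hij.symm)
        exact hu1 (hnofix u hu (pow_apply_fixed hp hσp (by omega) (by omega) h1))
      intro i hi j hj hij
      simp only [Finset.coe_range, Set.mem_Iio] at hi hj
      rcases lt_trichotomy i j with hlt | heq | hgt
      · exact absurd hij (hkey i j hlt hj)
      · exact heq
      · exact absurd hij.symm (hkey j i hgt hi)
    have heq : orbit = (Finset.univ.filter fun w => w ∈ d.range).erase 1 := by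
      refine Finset.eq_of_subset_of_card_le (fun w hw => ?_) ?_
      · obtain ⟨i, -, rfl⟩ := Finset.mem_image.1 hw
        simp only [Finset.mem_erase, Finset.mem_filter, Finset.mem_univ, true_and]
        exact ⟨fun e => hu1 ((map_eq_one_iff _ (σ ^ i).injective).1 e), hinvR i u hu⟩
      · rw [Finset.card_erase_of_mem (Finset.mem_filter.2 ⟨Finset.mem_univ _, one_mem _⟩), ← Fintype.card_subtype,
          ← Nat.card_eq_fintype_card, hR, hinj]
    have hval : ∀ w ∈ d.range, w ≠ 1 → Q.q w = Q.q u := by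
      intro w hw hw1
      have : w ∈ orbit := by rw [heq]; exact Finset.mem_erase.2 ⟨hw1, Finset.mem_filter.2 ⟨Finset.mem_univ _, hw⟩⟩
      obtain ⟨i, -, rfl⟩ := Finset.mem_image.1 this
      exact hinvar i u
    by_cases hqu : Q.q u = 1
    · refine hu1 (hnofix u hu ?_)
      have h1 : σ u ∈ d.range := by simpa using hinvR 1 u hu
      have h2 : σ u ≠ 1 := fun e => hu1 ((map_eq_one_iff _ σ.injective).1 e)
      exact h0 _ _ h2 hu1 ((hval _ h1 h2).trans hqu) hqu
    · exact Q.not_two_values d.range (by rw [hR]) _ _ hqu hqu fun w hw hw1 => Or.inl (hval w hw hw1)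
  · -- order 5: the pentagon
    have hF : ∀ v, σ v = v → v = 1 := fun v hv => by
      have hb : fixedSubgroup σ = ⊥ := Subgroup.card_eq_one.1 (by rw [hk]; norm_num)
      have hmem : v ∈ fixedSubgroup σ := hv
      rwa [hb, Subgroup.mem_bot] at hmem
    have hnz : ∀ v, v ≠ 1 → Q.q v ≠ 1 := fun v hv hq => hv (hF v (h0 _ _
      (fun e => hv ((map_eq_one_iff _ σ.injective).1 e)) hv
      ((by simpa using hinvar 1 v : Q.q (σ v) = Q.q v).trans hq) hq))
    haveI : Nontrivial V := Finite.one_lt_card_iff_nontrivial.1 (by rw [hn]; norm_num)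
    obtain ⟨u, hu⟩ := exists_ne (1 : V)
    have h5 : ∀ v, σ (σ (σ (σ (σ v)))) = v := fun v => by
      have h := DFunLike.congr_fun hσp v
      simpa [pow_succ, MulAut.mul_apply] using h
    let v1 := σ u
    let v2 := σ v1
    let v3 := σ v2
    let v4 := σ v3
    have hcm := comm_of_sq Q.sqV
    haveI : Std.Commutative (α := V) (· * ·) := ⟨hcm⟩
    haveI : Std.Associative (α := V) (· * ·) := ⟨mul_assoc⟩
    let pwv : V → Bool → V := fun v b => if b then v else 1
    let L : Bool × Bool × Bool × Bool → V :=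
      fun b => pwv u b.1 * pwv v1 b.2.1 * pwv v2 b.2.2.1 * pwv v3 b.2.2.2
    have hpx : ∀ v (a b : Bool), pwv v (a ^^ b) = pwv v a * pwv v b := fun v a b => by
      cases a <;> cases b <;> simp [pwv, Q.sqV]
    have hLadd : ∀ a b, L (vadd a b) = L a * L b := fun a b => by
      simp only [L, vadd, hpx]
      ac_rfl
    have hL0 : L (false, false, false, false) = 1 := by simp [L, pwv]
    have hv4 : L (true, true, true, true) = v4 := by
      have hfix : σ (u * v1 * v2 * v3 * v4) = u * v1 * v2 * v3 * v4 := by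
        simp only [map_mul]
        show v1 * v2 * v3 * v4 * σ v4 = _
        rw [show σ v4 = u from h5 u]
        ac_rfl
      have h1 := hF _ hfix
      have h2 : u * v1 * v2 * v3 * v4 * v4 = v4 := by rw [h1, one_mul]
      rw [mul_assoc, Q.sqV, mul_one] at h2
      simpa [L, pwv] using h2
    have horb : ∀ i : Fin 5, L (orb i) = (σ ^ (i : ℕ)) u := by
      intro i
      fin_cases i
      · simp [L, orb, pwv]
      · simp [L, orb, pwv, v1]
      · simp [L, orb, pwv, v1, v2, pow_succ, MulAut.mul_apply]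
      · simp [L, orb, pwv, v1, v2, v3, pow_succ, MulAut.mul_apply]
      · show L (true, true, true, true) = (σ ^ 4) u
        rw [hv4]
        simp [v1, v2, v3, v4, pow_succ, MulAut.mul_apply]
    let Lh : Subgroup V :=
      { carrier := Set.range L
        one_mem' := ⟨_, hL0⟩
        mul_mem' := by rintro _ _ ⟨a, rfl⟩ ⟨b, rfl⟩; exact ⟨_, hLadd a b⟩
        inv_mem' := by
          rintro _ ⟨a, rfl⟩
          exact ⟨a, (inv_eq_of_mul_eq_one_right (Q.sqV _)).symm⟩ }
    have htop : Lh = ⊤ := by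
      have hinvL : ∀ w ∈ Lh, σ w ∈ Lh := by
        rintro _ ⟨⟨a, b, c, e⟩, rfl⟩
        simp only [L, map_mul]
        refine mul_mem (mul_mem (mul_mem ?_ ?_) ?_) ?_
        · cases a
          · simp [pwv]
          · exact ⟨orb 1, by rw [horb]; simp [pwv]⟩
        · cases b
          · simp [pwv]
          · exact ⟨orb 2, by rw [horb]; simp [pwv, v1, pow_succ, MulAut.mul_apply]⟩
        · cases c
          · simp [pwv]
          · exact ⟨orb 3, by rw [horb]; simp [pwv, v1, v2, pow_succ, MulAut.mul_apply]⟩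
        · cases e
          · simp [pwv]
          · exact ⟨_, by rw [hv4]; simp [pwv, v4]⟩
      obtain ⟨j, hj⟩ := IsPGroup.iff_card.1 (hVp.to_subgroup Lh)
      let σ' : MulAut Lh :=
        MulEquiv.ofBijective ((σ.toMonoidHom.comp Lh.subtype).codRestrict Lh fun w => hinvL w w.2)
          (Finite.injective_iff_bijective.1 fun a b e => Subtype.ext (σ.injective (congrArg Subtype.val e)))
      have hσ' : ∀ w : Lh, ((σ' w : Lh) : V) = σ (w : V) := fun w => rfl
      have h5' : σ' ^ 5 = 1 := MulEquiv.ext fun w => Subtype.ext (by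
        simp only [pow_succ, pow_zero, one_mul, MulAut.mul_apply, MulAut.one_apply, hσ', h5])
      have hmod' := card_fixed_modEq_prime h5'
      have hone : Nat.card {w : Lh // σ' w = w} = 1 := by
        rw [Nat.card_eq_one_iff_exists]
        exact ⟨⟨1, map_one σ'⟩, fun w => Subtype.ext (Subtype.ext (hF _ (congrArg Subtype.val w.2)))⟩
      rw [hone, hj] at hmod'
      have hj4 : j ≤ 4 := by
        have := Subgroup.card_le_card_group Lh
        rw [hj, hn] at this
        exact (Nat.pow_le_pow_iff_right (le_refl 2)).1 this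
      have hj0 : j ≠ 0 := fun e => hu (by
        have hb : Lh = ⊥ := Subgroup.card_eq_one.1 (by rw [hj, e]; norm_num)
        have hmem : u ∈ Lh := ⟨orb 0, by rw [horb]; simp⟩
        rwa [hb, Subgroup.mem_bot] at hmem)
      refine Subgroup.eq_top_of_card_eq _ ?_
      rw [hj, hn]
      unfold Nat.ModEq at hmod'
      interval_cases j <;> simp_all (config := { decide := true })
    have hsurj : Function.Surjective L := fun v => (htop ▸ Subgroup.mem_top v : v ∈ Lh)
    have hLinj : Function.Injective L :=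
      ((Nat.bijective_iff_surjective_and_card L).2 ⟨hsurj, by simp [hn]⟩).1
    have hne : ∀ b, b ≠ (false, false, false, false) → L b ≠ 1 := fun b hb e => hb (hLinj (e.trans hL0.symm))
    -- orbit values
    have hw0 : ∀ i, Q.q (L (orb i)) = Q.q u := fun i => by rw [horb, hinvar]
    have hpair : ∀ j : Fin 5, ∀ i : Fin 5,
        Q.q (L (vadd (orb i) (orb (i + j)))) = Q.q (u * (σ ^ (j : ℕ)) u) := by
      intro j i
      rw [hLadd, horb, horb, ← hinvar i (u * (σ ^ (j : ℕ)) u), map_mul, ← MulAut.mul_apply, ← pow_add]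
      congr 3
      rw [Fin.val_add, ← pow_mod_orderOf σ ((i : ℕ) + j),
        show orderOf σ = 5 from orderOf_eq_prime hσp hσ1]
    have hwa : ∀ i, Q.q (L (adj i)) = Q.q (u * (σ ^ ((1 : Fin 5) : ℕ)) u) := fun i => by
      rw [← orb_shift]; exact hpair 1 i
    have hwd : ∀ i : Fin 5, Q.q (L (vadd (orb i) (orb (i + 2)))) = Q.q (u * (σ ^ ((2 : Fin 5) : ℕ)) u) :=
      hpair 2
    have n0 : Q.q u ≠ 1 := hnz u hu
    have n1 : Q.q (u * (σ ^ ((1 : Fin 5) : ℕ)) u) ≠ 1 := by
      rw [← hwa 0]; exact hnz _ (hne _ (by decide))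
    have n2 : Q.q (u * (σ ^ ((2 : Fin 5) : ℕ)) u) ≠ 1 := by
      rw [← hwd 0]; exact hnz _ (hne _ (by decide))
    have htv := Q.not_two_values ⊤ (by rw [Subgroup.card_top, hn]; norm_num)
    have hclass : ∀ v, v ≠ 1 → Q.q v = Q.q u ∨ Q.q v = Q.q (u * (σ ^ ((1 : Fin 5) : ℕ)) u) ∨
        Q.q v = Q.q (u * (σ ^ ((2 : Fin 5) : ℕ)) u) := by
      intro v hv
      obtain ⟨b, rfl⟩ := hsurj v
      rcases orbits_cover b with e | ⟨i, e⟩ | ⟨i, e⟩ | ⟨i, e⟩
      · exact absurd (e ▸ hL0) hv
      · exact Or.inl (e ▸ hw0 i)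
      · exact Or.inr (Or.inl (e ▸ hwa i))
      · exact Or.inr (Or.inr (e ▸ hwd i))
    have d01 : Q.q u ≠ Q.q (u * (σ ^ ((1 : Fin 5) : ℕ)) u) := fun e => htv _ _ n0 n2 fun v _ hv => by
      rcases hclass v hv with h | h | h
      exacts [Or.inl h, Or.inl (h.trans e.symm), Or.inr h]
    have d02 : Q.q u ≠ Q.q (u * (σ ^ ((2 : Fin 5) : ℕ)) u) := fun e => htv _ _ n0 n1 fun v _ hv => by
      rcases hclass v hv with h | h | h
      exacts [Or.inl h, Or.inr h, Or.inl (h.trans e.symm)]
    have d12 : Q.q (u * (σ ^ ((1 : Fin 5) : ℕ)) u) ≠ Q.q (u * (σ ^ ((2 : Fin 5) : ℕ)) u) :=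
      fun e => htv _ _ n0 n1 fun v _ hv => by
        rcases hclass v hv with h | h | h
        exacts [Or.inl h, Or.inr h, Or.inr (h.trans e.symm)]
    have mem0 : ∀ b, L b ≠ 1 → Q.q (L b) = Q.q u → ∃ i, orb i = b := by
      intro b hb hq
      rcases orbits_cover b with e | h | ⟨i, rfl⟩ | ⟨i, rfl⟩
      · exact absurd (e ▸ hL0) hb
      · exact h
      · exact absurd ((hwa i).symm.trans hq).symm d01
      · exact absurd ((hwd i).symm.trans hq).symm d02
    have mem1 : ∀ b, L b ≠ 1 → Q.q (L b) = Q.q (u * (σ ^ ((1 : Fin 5) : ℕ)) u) → ∃ i, adj i = b := by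
      intro b hb hq
      rcases orbits_cover b with e | ⟨i, rfl⟩ | h | ⟨i, rfl⟩
      · exact absurd (e ▸ hL0) hb
      · exact absurd ((hw0 i).symm.trans hq) d01
      · exact h
      · exact absurd ((hwd i).symm.trans hq).symm d12
    -- the images of the basis
    have horb1 : ∀ i : Fin 5, orb i ≠ (false, false, false, false) := by decide
    have hadj1 : ∀ i : Fin 5, adj i ≠ (false, false, false, false) := by decide
    have himg : ∀ a : A, ∀ i : Fin 5, ∃ j, L (orb j) = ρ a (L (orb i)) := by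
      intro a i
      obtain ⟨b, hb⟩ := hsurj (ρ a (L (orb i)))
      obtain ⟨j, rfl⟩ := mem0 b (by
        rw [hb]; exact fun e => hne _ (horb1 i) ((map_eq_one_iff _ (ρ a).injective).1 e))
        (by rw [hb, hpres, hw0])
      exact ⟨j, hb⟩
    choose img himg using himg
    let Φ : A → Fin 5 × Fin 5 × Fin 5 × Fin 5 := fun a => (img a 0, img a 1, img a 2, img a 3)
    have hadm : ∀ a, admissible (Φ a) = true := by
      intro a
      have key : ∀ i j k : Fin 5, vadd (orb i) (orb j) = adj k →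
          ∃ m, adj m = vadd (orb (img a i)) (orb (img a j)) := by
        intro i j k hk
        have hb : L (vadd (orb (img a i)) (orb (img a j))) = ρ a (L (adj k)) := by
          rw [hLadd, himg, himg, ← map_mul, ← hLadd, hk]
        refine mem1 _ ?_ ?_
        · rw [hb]; exact fun e => hne _ (hadj1 k) ((map_eq_one_iff _ (ρ a).injective).1 e)
        · rw [hb, hpres, hwa]
      simp only [admissible, Φ, Bool.and_eq_true, decide_eq_true_eq]
      refine ⟨⟨⟨key 0 1 0 (by decide), key 1 2 1 (by decide)⟩, key 2 3 2 (by decide)⟩, img a 4, ?_⟩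
      refine hLinj ?_
      simp only [hLadd, himg, ← map_mul]
      congr 1
      simp only [← hLadd]
      rfl
    have hΦ : Function.Injective Φ := by
      intro a b e
      simp only [Φ, Prod.mk.injEq] at e
      obtain ⟨e0, e1, e2, e3⟩ := e
      refine hρ (MulEquiv.ext fun v => ?_)
      obtain ⟨⟨x, y, z, w⟩, rfl⟩ := hsurj v
      have hgen : ∀ (i : Fin 5) (t : Bool), img a i = img b i →
          ρ a (pwv (L (orb i)) t) = ρ b (pwv (L (orb i)) t) := by
        intro i t hi
        cases t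
        · simp [pwv]
        · simp only [pwv, if_true]
          rw [← himg, ← himg, hi]
      have h0' := hgen 0 x e0
      have h1' := hgen 1 y e1
      have h2' := hgen 2 z e2
      have h3' := hgen 3 w e3
      rw [horb] at h0' h1' h2' h3'
      simp [pow_succ, MulAut.mul_apply] at h0' h1' h2' h3'
      simp only [L, map_mul]
      simp only [v1, v2, v3, h0', h1', h2', h3']
    have hA : Nat.card A ≤ 10 := by
      refine le_trans ?_ card_admissible
      rw [← Nat.card_eq_finsetCard]
      refine Nat.card_le_card_of_injective (fun a => (⟨Φ a, by simp [hadm a]⟩ :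
        {t // t ∈ Finset.univ.filter fun t : Fin 5 × Fin 5 × Fin 5 × Fin 5 => admissible t = true})) ?_
      intro a b e
      exact hΦ (congrArg Subtype.val e)
    have hpos : 0 < Nat.card A := Nat.card_pos
    obtain ⟨c, hc⟩ := hpA
    obtain rfl | rfl : c = 1 ∨ c = 2 := by omega
    · exact CharInt.isSolvable_of_card_eq Nat.prime_two (by norm_num : Nat.Prime 5) (a := 0) (b := 1) (by rw [hc]; norm_num)
    · exact CharInt.isSolvable_of_card_eq Nat.prime_two (by norm_num : Nat.Prime 5) (a := 1) (b := 1) (by rw [hc]; norm_num)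

end Cfsg.Agent.ThreeInvol
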