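import Cfsg.Agent.Lib.ThreeInvol.Solvable
import Cfsg.Agent.Lib.PGroup.Critical
import Cfsg.Agent.Lib.PGroup.Frattini

/-!
The automorphism group of a 2-group with at most three involutions is solvable: reduction to a
quadratic map on `H ⧸ Z(H)` for a critical subgroup `H`.
-/

set_option autoImplicit false
set_option linter.style.haveILetI false

namespace Cfsg.Agent.ThreeInvol

open scoped Classical commutatorElement IsMulCommutative

/-- A finite group without non-trivial elements of odd order is solvable. -/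
theorem solvable_of_odd_trivial {M : Type*} [Group M] [Finite M]
    (h : ∀ m : M, Odd (orderOf m) → m = 1) : Group.IsSolvable M := by
  haveI : Fact (Nat.Prime 2) := ⟨Nat.prime_two⟩
  have hp : IsPGroup 2 M := by
    obtain ⟨a, m, hm, hM⟩ := Nat.exists_eq_pow_mul_and_not_dvd (Nat.card_pos (α := M)).ne' 2 (by norm_num)
    refine IsPGroup.of_card (n := a) ?_
    obtain rfl : m = 1 := by
      by_contra hm1
      obtain ⟨q, hq, hqm⟩ := Nat.exists_prime_and_dvd hm1
      haveI : Fact q.Prime := ⟨hq⟩
      obtain ⟨g, hg⟩ := exists_prime_orderOf_dvd_card' (G := M) q (hM ▸ hqm.mul_left _)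
      have hodd : Odd q := hq.eq_two_or_odd'.resolve_left fun e => hm (e ▸ hqm)
      have hg1 := h g (hg ▸ hodd)
      rw [hg1, orderOf_one] at hg
      exact hq.one_lt.ne hg
    rw [hM, mul_one]
  have := hp.isNilpotent
  infer_instance

/-- An extension of solvable groups given by a homomorphism. -/
theorem solvable_of_ker_range {G M : Type*} [Group G] [Group M] (f : G →* M)
    (hk : Group.IsSolvable f.ker) (hr : Group.IsSolvable f.range) : Group.IsSolvable G :=
  Group.isSolvable_of_ker_le_range f.ker.subtype f.rangeRestrict (by simp)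

/-- An automorphism of odd order of an abelian 2-group fixing its involutions is trivial. -/
theorem eq_one_of_fix_sq_one {Z : Type*} [CommGroup Z] (h2 : IsPGroup 2 Z) (φ : MulAut Z)
    (hodd : Odd (orderOf φ)) (hfix : ∀ z : Z, z * z = 1 → φ z = z) : φ = 1 := by
  have key : ∀ (n : ℕ) (z : Z), z ^ 2 ^ n = 1 → φ z = z := by
    intro n
    induction n with
    | zero =>
      intro z hz
      rw [pow_zero, pow_one] at hz
      rw [hz, map_one]
    | succ n ih =>
      intro z hz
      rw [pow_succ', pow_mul] at hz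
      have hzz := ih _ hz
      rw [map_pow] at hzz
      have hc2 : (z⁻¹ * φ z) ^ 2 = 1 := by rw [mul_pow, hzz, inv_pow, inv_mul_cancel]
      set c := z⁻¹ * φ z with hc
      have hφc : φ c = c := hfix c (by rw [← pow_two, hc2])
      have hiter : ∀ m : ℕ, (φ ^ m) z = z * c ^ m := by
        intro m
        induction m with
        | zero => simp
        | succ m ihm =>
          rw [pow_succ', MulAut.mul_apply, ihm, map_mul, map_pow, hφc, pow_succ', ← mul_assoc, hc,
            mul_inv_cancel_left]
      have h1 := hiter (orderOf φ)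
      obtain ⟨k, hk⟩ := hodd
      rw [pow_orderOf_eq_one, MulAut.one_apply, left_eq_mul, hk, pow_succ, pow_mul, hc2, one_pow,
        one_mul, hc, inv_mul_eq_one] at h1
      exact h1.symm
  exact MulEquiv.ext fun z => (h2 z).elim fun n hn => key n z hn

/-- The automorphism group of an abelian 2-group with at most three involutions is solvable. -/
theorem solvable_aut_abelian {Z : Type*} [CommGroup Z] [Finite Z] (h2 : IsPGroup 2 Z)
    (h4 : Nat.card {z : Z // z * z = 1} ≤ 4) : Group.IsSolvable (MulAut Z) := by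
  let g : MulAut Z →* Equiv.Perm {z : Z // z * z = 1} :=
    { toFun := fun φ => φ.toEquiv.subtypeEquiv fun z => by
        show z * z = 1 ↔ φ z * φ z = 1
        rw [← map_mul]
        exact (map_eq_one_iff _ φ.injective).symm
      map_one' := Equiv.ext fun z => rfl
      map_mul' := fun a b => Equiv.ext fun z => rfl }
  refine solvable_of_ker_range g (solvable_of_odd_trivial fun φ hφ => ?_)
    (SolvableAut.isSolvable_of_dvd_24 ?_)
  · refine Subtype.ext (eq_one_of_fix_sq_one h2 φ.1 (by rwa [Subgroup.orderOf_coe]) fun z hz => ?_)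
    exact congrArg Subtype.val (Equiv.congr_fun φ.2 ⟨z, hz⟩)
  · refine (Subgroup.card_subgroup_dvd_card g.range).trans ?_
    rw [Nat.card_perm]
    exact (Nat.factorial_dvd_factorial h4).trans (by decide)

section Class2

variable {H : Type*} [Group H]

theorem sq_mul_of_central (hc : ∀ h : H, h * h ∈ Subgroup.center H) (a b : H) :
    a * b * (a * b) = ⁅b, a⁆ * ((a * a) * (b * b)) := by
  have hk : ⁅b, a⁆ ∈ Subgroup.center H := by
    have he : ⁅b, a⁆ = b * a * (b * a) * ((a * a)⁻¹ * a * (b * b)⁻¹ * a⁻¹) * ((a * a) * (a * a)⁻¹) := by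
      group
    rw [he]
    refine mul_mem (mul_mem (hc _) ?_) (mul_mem (hc _) (inv_mem (hc _)))
    rw [mul_assoc ((a * a)⁻¹ * a), ← Subgroup.mem_center_iff.1 (inv_mem (hc b)) a⁻¹, ← mul_assoc,
      mul_assoc (a * a)⁻¹ a a⁻¹, mul_inv_cancel, mul_one]
    exact mul_mem (inv_mem (hc a)) (inv_mem (hc b))
  have hka : a * ⁅b, a⁆ = ⁅b, a⁆ * a := Subgroup.mem_center_iff.1 hk a
  calc a * b * (a * b) = a * ⁅b, a⁆ * (a * (b * b)) := by rw [commutatorElement_def]; group
    _ = _ := by rw [hka]; group

end Class2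

/-- A group of automorphisms fixing the centre of a class 2 group with few involutions acts on
`H ⧸ Z(H)` as a solvable group. -/
theorem solvable_on_quotient {H : Type*} [Group H] [Finite H] (h2 : IsPGroup 2 H)
    (h4 : Nat.card {x : H // x * x = 1} ≤ 4) (hc : ∀ h : H, h * h ∈ Subgroup.center H)
    {A : Type*} [Group A] [Finite A] (ρ : A →* MulAut (H ⧸ Subgroup.center H)) (hρ : Function.Injective ρ)
    (hfix : ∀ a (h : H), ∃ h' : H, h' * h' = h * h ∧ ρ a h = h') : Group.IsSolvable A := by
  haveI : Fact (Nat.Prime 2) := ⟨Nat.prime_two⟩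
  let sq : Subgroup.center H →* Subgroup.center H := powMonoidHom 2
  have hker : Nat.card (Subgroup.center H ⧸ sq.range) = Nat.card sq.ker := by
    have h1 := sq.range.card_mul_index
    have h2 := sq.ker.card_mul_index
    rw [Subgroup.index_ker, mul_comm] at h2
    exact Nat.eq_of_mul_eq_mul_left Nat.card_pos (h1.trans h2.symm)
  have hinj : ∀ {ι : Type} (i : ι → H), (∀ j, i j * i j = 1) →
      (∀ j k, (i j)⁻¹ * i k ∈ Subgroup.center H → j = k) → Nat.card sq.ker * Nat.card ι ≤ 4 := by
    intro ι i hi hsep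
    rw [← Nat.card_prod]
    refine le_trans (Nat.card_le_card_of_injective (fun p => (⟨i p.2 * p.1.1.1, ?_⟩ : {x : H // x * x = 1})) ?_) h4
    · have hz : (p.1.1.1 : H) * p.1.1.1 = 1 := by
        have := congrArg Subtype.val p.1.2
        simpa [sq, pow_two] using this
      have hcm : i p.2 * p.1.1.1 = p.1.1.1 * i p.2 := Subgroup.mem_center_iff.1 p.1.1.2 _
      calc i p.2 * p.1.1.1 * (i p.2 * p.1.1.1) = i p.2 * i p.2 * (p.1.1.1 * p.1.1.1) := by
            rw [mul_assoc, ← mul_assoc (p.1.1.1 : H), ← hcm]; group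
        _ = 1 := by rw [hi, hz, one_mul]
    · intro p p' e
      have e' : i p.2 * p.1.1.1 = i p'.2 * p'.1.1.1 := congrArg Subtype.val e
      have hj : p.2 = p'.2 := hsep _ _ (by
        rw [show (i p.2)⁻¹ * i p'.2 = p.1.1.1 * (p'.1.1.1 : H)⁻¹ by
          rw [eq_mul_inv_iff_mul_eq, mul_assoc, ← e', inv_mul_cancel_left]]
        exact mul_mem p.1.1.2 (inv_mem p'.1.1.2))
      rw [hj] at e'
      exact Prod.ext (Subtype.ext (Subtype.ext (mul_left_cancel e'))) hj
  have hW : Nat.card (Subgroup.center H ⧸ sq.range) ≤ 4 := by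
    rw [hker]
    have := hinj (ι := Unit) (fun _ => 1) (by simp) (fun _ _ _ => rfl)
    simpa using this
  let qf : H → Subgroup.center H ⧸ sq.range := fun h => QuotientGroup.mk ⟨h * h, hc h⟩
  let cm : H → H → Subgroup.center H ⧸ sq.range := fun a b => qf (a * b) * (qf a * qf b)⁻¹
  have hqq : ∀ a b : H, ∃ hk : ⁅b, a⁆ ∈ Subgroup.center H,
      qf (a * b) = QuotientGroup.mk ⟨⁅b, a⁆, hk⟩ * (qf a * qf b) := by
    intro a b
    have hk : ⁅b, a⁆ ∈ Subgroup.center H := by
      have h := sq_mul_of_central hc a b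
      rw [← mul_inv_eq_iff_eq_mul] at h
      exact h ▸ mul_mem (hc _) (inv_mem (mul_mem (hc _) (hc _)))
    refine ⟨hk, ?_⟩
    simp only [qf, ← QuotientGroup.mk_mul]
    exact congrArg _ (Subtype.ext (sq_mul_of_central hc a b))
  have hadd : ∀ a b c : H, cm (a * b) c = cm a c * cm b c := by
    intro a b c
    obtain ⟨k1, e1⟩ := hqq (a * b) c
    obtain ⟨k2, e2⟩ := hqq a c
    obtain ⟨k3, e3⟩ := hqq b c
    simp only [cm, e1, e2, e3, mul_inv_cancel_right, ← QuotientGroup.mk_mul]
    refine congrArg _ (Subtype.ext ?_)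
    show ⁅c, a * b⁆ = ⁅c, a⁆ * ⁅c, b⁆
    calc ⁅c, a * b⁆ = ⁅c, a⁆ * (a * ⁅c, b⁆ * a⁻¹) := by simp [commutatorElement_def, mul_assoc]
      _ = _ := by rw [Subgroup.mem_center_iff.1 k3 a, mul_inv_cancel_right]
  have hsqW : ∀ w : Subgroup.center H ⧸ sq.range, w * w = 1 := by
    intro w
    induction w using QuotientGroup.induction_on with
    | H z => exact (QuotientGroup.eq_one_iff _).2 ⟨z, by simp [sq, pow_two]⟩
  have hwd : ∀ h h' : H, h⁻¹ * h' ∈ Subgroup.center H → qf h = qf h' := by
    intro h h' hz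
    refine QuotientGroup.eq.2 ⟨⟨_, hz⟩, Subtype.ext ?_⟩
    show (h⁻¹ * h') ^ 2 = (h * h)⁻¹ * (h' * h')
    calc (h⁻¹ * h') ^ 2 = h⁻¹ * h' * (h⁻¹ * h') := pow_two _
      _ = h⁻¹ * ((h⁻¹ * h') * h') := by rw [← Subgroup.mem_center_iff.1 hz h']; group
      _ = _ := by group
  let q : H ⧸ Subgroup.center H → Subgroup.center H ⧸ sq.range := fun v => Quotient.liftOn' v qf
    fun h h' e => hwd h h' (QuotientGroup.leftRel_apply.1 e)
  have hq : ∀ h : H, q (QuotientGroup.mk h) = qf h := fun h => rfl
  have hlaw : ∀ a b c : H, qf (a * b * c) * qf (a * b) * qf (a * c) * qf (b * c) * qf a * qf b * qf c = 1 := by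
    intro a b c
    have hexp : ∀ x y : H, qf (x * y) = cm x y * (qf x * qf y) := fun x y => (inv_mul_cancel_right _ _).symm
    rw [hexp (a * b) c, hadd, hexp a c, hexp b c]
    calc _ = (cm a c * cm a c) * (cm b c * cm b c) * (qf (a * b) * qf (a * b)) * (qf a * qf a) *
          (qf b * qf b) * ((qf c * qf c) * (qf c * qf c)) := by ac_rfl
      _ = 1 := by simp only [hsqW]
  let Q : QMap (H ⧸ Subgroup.center H) (Subgroup.center H ⧸ sq.range) :=
    { q := q
      sqV := fun v => by
        induction v using QuotientGroup.induction_on with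
        | H h => exact (QuotientGroup.eq_one_iff _).2 (hc h)
      sqW := hsqW
      q_one := by
        show qf 1 = 1
        exact (QuotientGroup.eq_one_iff _).2 ⟨1, by ext; simp⟩
      law := fun x y z => by
        induction x using QuotientGroup.induction_on with
        | H a =>
        induction y using QuotientGroup.induction_on with
        | H b =>
        induction z using QuotientGroup.induction_on with
        | H c => exact hlaw a b c }
  have hzero : ∀ v, v ≠ 1 → q v = 1 → ∃ i : H, i * i = 1 ∧ QuotientGroup.mk i = v ∧ i ∉ Subgroup.center H := by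
    intro v hv hqv
    induction v using QuotientGroup.induction_on with
    | H h =>
    obtain ⟨z, hz⟩ := (QuotientGroup.eq_one_iff _).1 (show qf h = 1 from hqv)
    have hz' : (z : H) * z = h * h := by
      have := congrArg Subtype.val hz
      simpa [sq, pow_two] using this
    refine ⟨h * (z : H)⁻¹, ?_, ?_, fun hi => hv ?_⟩
    · have hcm : (z : H)⁻¹ * h = h * (z : H)⁻¹ := (Subgroup.mem_center_iff.1 (inv_mem z.2) h).symm
      calc h * (z : H)⁻¹ * (h * (z : H)⁻¹) = h * ((z : H)⁻¹ * h) * (z : H)⁻¹ := by group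
        _ = h * h * ((z : H) * z)⁻¹ := by rw [hcm]; group
        _ = 1 := by rw [hz', mul_inv_cancel]
    · exact QuotientGroup.eq.2 (by simp)
    · exact (QuotientGroup.eq_one_iff _).2 (by simpa using mul_mem hi z.2)
  have hk2 : (∃ v : H ⧸ Subgroup.center H, v ≠ 1) → 2 ≤ Nat.card sq.ker := by
    rintro ⟨v, hv⟩
    haveI : Nontrivial H := by
      by_contra hn
      rw [not_nontrivial_iff_subsingleton] at hn
      exact hv (Subsingleton.elim _ _)
    haveI := IsPGroup.center_nontrivial h2
    obtain ⟨z, hz⟩ := exists_prime_orderOf_dvd_card' (G := Subgroup.center H) 2 (by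
      obtain ⟨n, hn⟩ := IsPGroup.iff_card.1 (h2.to_subgroup (Subgroup.center H))
      have : 1 < Nat.card (Subgroup.center H) := Finite.one_lt_card
      rw [hn] at this ⊢
      exact dvd_pow_self 2 (by rintro rfl; simp at this))
    haveI : Nontrivial sq.ker := ⟨⟨⟨z, by simp [sq, ← hz, pow_orderOf_eq_one]⟩, 1, fun e => by
      have : z = 1 := congrArg Subtype.val e
      simp [this] at hz⟩⟩
    exact Finite.one_lt_card
  refine Q.solvable_of_preserves hW (fun v v' hv hv' e e' => ?_) ?_ ρ hρ (fun a v => ?_)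
  · by_contra hne
    obtain ⟨i, hi, hiv, hic⟩ := hzero v hv e
    obtain ⟨i', hi', hiv', hic'⟩ := hzero v' hv' e'
    have := hinj (ι := Fin 3) ![1, i, i'] (by intro j; fin_cases j <;> simp [hi, hi']) (by
      intro j k hjk
      have hjk' := QuotientGroup.eq.2 hjk
      fin_cases j <;> fin_cases k <;> simp [hiv, hiv'] at hjk' ⊢ <;>
        first | exact hv hjk' | exact hv hjk'.symm | exact hv' hjk' | exact hv' hjk'.symm | exact hne hjk' | exact hne hjk'.symm)
    rw [Nat.card_fin] at this
    have := hk2 ⟨v, hv⟩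
    omega
  · rintro ⟨v, hv, e⟩
    obtain ⟨i, hi, hiv, hic⟩ := hzero v hv e
    have := hinj (ι := Fin 2) ![1, i] (by intro j; fin_cases j <;> simp [hi]) (by
      intro j k hjk
      have hjk' := QuotientGroup.eq.2 hjk
      fin_cases j <;> fin_cases k <;> simp [hiv] at hjk' ⊢ <;> first | exact hv hjk' | exact hv hjk'.symm)
    rw [Nat.card_fin] at this
    rw [hker]
    omega
  · induction v using QuotientGroup.induction_on with
    | H h =>
    obtain ⟨h', hh', e⟩ := hfix a h
    show q (ρ a h) = qf h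
    rw [e, hq]
    simp only [qf, hh']

/-- The automorphism group of a 2-group with at most three involutions is solvable. -/
theorem solvable_aut {X : Type*} [Group X] [Finite X] (h2 : IsPGroup 2 X)
    (h4 : Nat.card {x : X // x * x = 1} ≤ 4) : Group.IsSolvable (MulAut X) := by
  haveI : Fact (Nat.Prime 2) := ⟨Nat.prime_two⟩
  obtain ⟨H, hH, hfr, -, hC⟩ := PGroup.exists_critical h2
  haveI := hH
  have hH2 := h2.to_subgroup H
  have hH4 : Nat.card {x : H // x * x = 1} ≤ 4 :=
    le_trans (Nat.card_le_card_of_injective (fun x => (⟨x.1.1, congrArg Subtype.val x.2⟩ : {x : X // x * x = 1}))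
      fun x y e => Subtype.ext (Subtype.ext (congrArg (fun z => (z : {x : X // x * x = 1}).1) e))) h4
  have hc : ∀ h : H, h * h ∈ Subgroup.center H := fun h => Subgroup.mem_center_iff.2 fun g => by
    have hm := hfr (Subgroup.mem_map_of_mem H.subtype (PGroup.pow_mem_frattini hH2 h))
    have := hm g g.2
    refine Subtype.ext ?_
    simpa [pow_two] using this
  let r : MulAut X →* MulAut H := (MonoidHom.fst _ _).comp (SolvableAut.resPair H)
  suffices hAH : Group.IsSolvable (MulAut H) by
    refine solvable_of_ker_range r (solvable_of_odd_trivial fun φ hφ => ?_) inferInstance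
    refine Subtype.ext (PGroup.aut_eq_one_of_centralizer_le h2 H hC φ.1
      (Nat.coprime_two_right.2 (by rwa [Subgroup.orderOf_coe])) fun h hh => ?_)
    exact congrArg Subtype.val (MulEquiv.congr_fun φ.2 ⟨h, hh⟩)
  let f := SolvableAut.resPair (Subgroup.center H)
  let f1 : MulAut H →* MulAut (Subgroup.center H) := (MonoidHom.fst _ _).comp f
  have hZ : Group.IsSolvable (MulAut (Subgroup.center H)) := by
    refine solvable_aut_abelian (Z := Subgroup.center H) (hH2.to_subgroup _) (le_trans ?_ hH4)
    exact Nat.card_le_card_of_injective (fun x => (⟨x.1.1, congrArg Subtype.val x.2⟩ : {x : H // x * x = 1}))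
      fun x y e => Subtype.ext (Subtype.ext (congrArg (fun z => (z : {x : H // x * x = 1}).1) e))
  refine solvable_of_ker_range f1 ?_ inferInstance
  let f2 : f1.ker →* MulAut (H ⧸ Subgroup.center H) :=
    ((MonoidHom.snd _ _).comp f).comp f1.ker.subtype
  have hfixc : ∀ (φ : f1.ker) (z : H), z ∈ Subgroup.center H → φ.1 z = z := fun φ z hz =>
    congrArg Subtype.val (MulEquiv.congr_fun φ.2 ⟨z, hz⟩)
  refine solvable_of_ker_range f2 (solvable_of_odd_trivial fun φ hφ => ?_) ?_
  · refine Subtype.ext (Subtype.ext (MulEquiv.ext fun h => ?_))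
    show φ.1.1 h = h
    have hmem : h⁻¹ * φ.1.1 h ∈ Subgroup.center H :=
      QuotientGroup.eq.1 (MulEquiv.congr_fun φ.2 (QuotientGroup.mk h)).symm
    have hiter : ∀ m : ℕ, (φ.1.1 ^ m) h = h * (h⁻¹ * φ.1.1 h) ^ m := by
      intro m
      induction m with
      | zero => simp
      | succ m ihm =>
        rw [pow_succ', MulAut.mul_apply, ihm, map_mul, map_pow, hfixc φ.1 _ hmem, pow_succ', ← mul_assoc,
          mul_inv_cancel_left]
    have h1 := hiter (orderOf φ)
    rw [show φ.1.1 ^ orderOf φ = 1 by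
      rw [← SubmonoidClass.coe_pow, ← SubmonoidClass.coe_pow, pow_orderOf_eq_one]; rfl,
      MulAut.one_apply, left_eq_mul] at h1
    obtain ⟨k, hk⟩ := hH2 (h⁻¹ * φ.1.1 h)
    have h1' : h⁻¹ * φ.1.1 h = 1 := by
      rw [← orderOf_eq_one_iff, ← Nat.dvd_one,
        ← (Nat.coprime_two_left.2 hφ).pow_left k]
      exact Nat.dvd_gcd (orderOf_dvd_of_pow_eq_one hk) (orderOf_dvd_of_pow_eq_one h1)
    exact (inv_mul_eq_one.1 h1').symm
  · refine solvable_on_quotient hH2 hH4 hc f2.range.subtype f2.range.subtype_injective fun a h => ?_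
    obtain ⟨_, φ, rfl⟩ := a
    exact ⟨φ.1 h, by rw [← map_mul, hfixc φ _ (hc h)], rfl⟩

end Cfsg.Agent.ThreeInvol
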