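import Mathlib
import Cfsg.Agent.Lib.CharInt.Burnside
import Cfsg.Agent.Lib.Frobenius.SolvableAut

/-!
A group of automorphisms of an elementary abelian 2-group `V` preserving an almost anisotropic
quadratic map into a group of order at most 4 is solvable.
-/

set_option autoImplicit false

namespace Cfsg.Agent.ThreeInvol

open scoped Classical

variable {V : Type*} [Group V]

theorem comm_of_sq (hV : ∀ v : V, v * v = 1) (a b : V) : a * b = b * a := by
  have h : ∀ v : V, v⁻¹ = v := fun v => inv_eq_of_mul_eq_one_right (hV v)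
  calc a * b = (a * b)⁻¹ := (h _).symm
    _ = b * a := by rw [mul_inv_rev, h, h]

/-- Degree at most `n`. -/
def Deg : ℕ → (V → ZMod 2) → Prop
  | 0, f => ∀ v w, f v = f w
  | n + 1, f => ∀ e, Deg n (fun v => f (v * e) + f v)

theorem Deg.add : ∀ (n : ℕ) {f g : V → ZMod 2}, Deg n f → Deg n g → Deg n (fun v => f v + g v)
  | 0, f, g, hf, hg => fun v w => by show f v + g v = f w + g w; rw [hf v w, hg v w]
  | n + 1, f, g, hf, hg => fun e => by
    have := Deg.add n (hf e) (hg e)
    convert this using 1
    funext v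
    ring

theorem Deg.smul : ∀ (n : ℕ) {f : V → ZMod 2} (c : ZMod 2), Deg n f → Deg n (fun v => c * f v)
  | 0, f, c, hf => fun v w => by show c * f v = c * f w; rw [hf v w]
  | n + 1, f, c, hf => fun e => by
    have := Deg.smul n c (hf e)
    convert this using 1
    funext v
    ring

theorem Deg.trans : ∀ (n : ℕ) (hV : ∀ v : V, v * v = 1) {f : V → ZMod 2} (e : V),
    Deg n f → Deg n (fun v => f (v * e))
  | 0, _, f, e, hf => fun v w => hf _ _
  | n + 1, hV, f, e, hf => fun e' => by
    have := Deg.trans n hV e (hf e')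
    convert this using 1
    funext v
    show f (v * e' * e) + f (v * e) = _
    rw [mul_assoc, mul_assoc, comm_of_sq hV e' e]

theorem Deg.mul (hV : ∀ v : V, v * v = 1) : ∀ (n a b : ℕ) {f g : V → ZMod 2}, a + b = n →
    Deg a f → Deg b g → Deg n (fun v => f v * g v) := by
  intro n
  induction n with
  | zero =>
    intro a b f g hab hf hg
    obtain ⟨rfl, rfl⟩ : a = 0 ∧ b = 0 := by omega
    exact fun v w => by show f v * g v = f w * g w; rw [hf v w, hg v w]
  | succ n ih =>
    intro a b f g hab hf hg
    rcases a with _ | a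
    · obtain rfl : b = n + 1 := by omega
      have := Deg.smul (n + 1) (f 1) hg
      convert this using 1
      funext v
      rw [hf v 1]
    rcases b with _ | b
    · obtain rfl : a = n := by omega
      have := Deg.smul (a + 1) (g 1) hf
      convert this using 1
      funext v
      rw [hg v 1, mul_comm]
    intro e
    have h1 := ih a (b + 1) (by omega) (hf e) (Deg.trans (b + 1) hV e hg)
    have h2 := ih (a + 1) b (by omega) hf (hg e)
    have h3 := Deg.add n h1 h2
    convert h3 using 1
    funext v
    have h2 : (2 : ZMod 2) = 0 := rfl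
    linear_combination (-(f v * g (v * e))) * h2

/-- The span of a list. -/
noncomputable def spn : List V → Finset V
  | [] => {1}
  | e :: l => spn l ∪ (spn l).image (fun v => v * e)

/-- Independence. -/
def Indep : List V → Prop
  | [] => True
  | e :: l => e ∉ spn l ∧ Indep l

/-- The iterated difference at the identity. -/
def diffSum : List V → (V → ZMod 2) → ZMod 2
  | [], f => f 1
  | e :: l, f => diffSum l (fun v => f (v * e) + f v)

theorem one_mem_spn : ∀ l : List V, (1 : V) ∈ spn l
  | [] => by simp [spn]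
  | e :: l => by simp [spn, one_mem_spn l]

theorem diffSum_deg : ∀ (n : ℕ) (l : List V) (f : V → ZMod 2), l.length = n + 1 → Deg n f → diffSum l f = 0
  | 0, [e], f, _, hf => by
    show f (1 * e) + f 1 = 0
    rw [hf (1 * e) 1]
    exact CharTwo.add_self_eq_zero _
  | n + 1, e :: l, f, hl, hf => by
    have hl' : l.length = n + 1 := by simpa using hl
    exact diffSum_deg n l _ hl' (hf e)

theorem diffSum_eq_one (hV : ∀ v : V, v * v = 1) : ∀ (l : List V) (f : V → ZMod 2), Indep l → f 1 = 1 →
    (∀ v ∈ spn l, v ≠ 1 → f v = 0) → diffSum l f = 1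
  | [], f, _, h1, _ => h1
  | e :: l, f, hl, h1, h0 => by
    refine diffSum_eq_one hV l _ hl.2 ?_ fun v hv hv1 => ?_
    · have he : f (1 * e) = 0 := by
        refine h0 _ ?_ ?_
        · exact Finset.mem_union_right _ (Finset.mem_image_of_mem _ (one_mem_spn l))
        · rw [one_mul]; rintro rfl; exact hl.1 (one_mem_spn l)
      rw [he, h1, zero_add]
    · have he : f (v * e) = 0 := by
        refine h0 _ (Finset.mem_union_right _ (Finset.mem_image_of_mem _ hv)) fun h => hl.1 ?_
        rwa [show e = v from mul_left_cancel (h.trans (hV v).symm)]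
      rw [he, h0 v (Finset.mem_union_left _ hv) hv1, add_zero]

theorem card_spn_le : ∀ l : List V, (spn l).card ≤ 2 ^ l.length
  | [] => by simp [spn]
  | e :: l => by
    have := card_spn_le l
    have h1 := Finset.card_union_le (spn l) ((spn l).image fun v => v * e)
    have h2 := Finset.card_image_le (s := spn l) (f := fun v => v * e)
    show (spn l ∪ (spn l).image fun v => v * e).card ≤ 2 ^ (l.length + 1)
    rw [pow_succ]
    omega

theorem spn_subset (K : Subgroup V) : ∀ l : List V, (∀ e ∈ l, e ∈ K) → ∀ v ∈ spn l, v ∈ K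
  | [], _, v, hv => by simp [spn] at hv; subst hv; exact one_mem K
  | e :: l, h, v, hv => by
    rcases Finset.mem_union.1 hv with h' | h'
    · exact spn_subset K l (fun x hx => h x (List.mem_cons_of_mem _ hx)) v h'
    · obtain ⟨u, hu, rfl⟩ := Finset.mem_image.1 h'
      exact mul_mem (spn_subset K l (fun x hx => h x (List.mem_cons_of_mem _ hx)) u hu) (h e List.mem_cons_self)

theorem exists_indep [Finite V] (hV : ∀ v : V, v * v = 1) (K : Subgroup V) (U : Finset V) (hU : (1 : V) ∉ U) :
    ∀ n : ℕ, (1 + U.card) * 2 ^ n < Nat.card K * 2 →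
      ∃ l : List V, l.length = n ∧ Indep l ∧ (∀ e ∈ l, e ∈ K) ∧ ∀ u ∈ U, u ∉ spn l := by
  intro n
  induction n with
  | zero =>
    exact fun _ => ⟨[], rfl, trivial, by simp, fun u hu h => hU (by simp [spn] at h; exact h ▸ hu)⟩
  | succ n ih =>
    intro hn
    rw [pow_succ, ← mul_assoc] at hn
    obtain ⟨l, hl, hi, hK, hd⟩ := ih (by omega)
    haveI : Fintype V := Fintype.ofFinite V
    let bad : Finset V := spn l ∪ U.biUnion fun u => (spn l).image fun v => v * u
    have hcard : bad.card ≤ (1 + U.card) * 2 ^ n := by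
      have h1 := Finset.card_union_le (spn l) (U.biUnion fun u => (spn l).image fun v => v * u)
      have h2 := Finset.card_biUnion_le_card_mul U (fun u => (spn l).image fun v => v * u) (2 ^ n)
        fun u _ => Finset.card_image_le.trans (hl ▸ card_spn_le l)
      have h3 := hl ▸ card_spn_le l
      simp only [bad]
      rw [add_mul, one_mul]
      omega
    have hlt : bad.card < (Finset.univ.filter fun v => v ∈ K).card := by
      rw [← Fintype.card_subtype, ← Nat.card_eq_fintype_card]
      have := Nat.card_pos (α := K)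
      omega
    obtain ⟨e, he, heb⟩ := Finset.exists_mem_notMem_of_card_lt_card hlt
    simp only [Finset.mem_filter, Finset.mem_univ, true_and] at he
    refine ⟨e :: l, by simp [hl], ⟨fun h => heb (Finset.mem_union_left _ h), hi⟩, ?_, fun u hu h => ?_⟩
    · intro x hx
      rcases List.mem_cons.1 hx with rfl | hx
      exacts [he, hK x hx]
    · rcases Finset.mem_union.1 h with h | h
      · exact hd u hu h
      · obtain ⟨v, hv, hve⟩ := Finset.mem_image.1 h
        refine heb (Finset.mem_union_right _ (Finset.mem_biUnion.2 ⟨u, hu, Finset.mem_image.2 ⟨v, hv, ?_⟩⟩))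
        rw [← hve, ← mul_assoc, hV, one_mul]

/-- A quadratic map. -/
structure QMap (V : Type*) [Group V] (W : Type*) [CommGroup W] where
  /-- the map -/
  q : V → W
  sqV : ∀ v : V, v * v = 1
  sqW : ∀ w : W, w * w = 1
  q_one : q 1 = 1
  law : ∀ a b c : V, q (a * b * c) * q (a * b) * q (a * c) * q (b * c) * q a * q b * q c = 1

variable {W : Type*} [CommGroup W] (Q : QMap V W)

namespace QMap

theorem deg_comp (lam : W →* Multiplicative (ZMod 2)) :
    Deg 2 (fun v => Multiplicative.toAdd (lam (Q.q v))) := by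
  intro a b v w
  have key : ∀ x, (Multiplicative.toAdd (lam (Q.q (x * b * a))) + Multiplicative.toAdd (lam (Q.q (x * b)))) +
      (Multiplicative.toAdd (lam (Q.q (x * a))) + Multiplicative.toAdd (lam (Q.q x))) =
      Multiplicative.toAdd (lam (Q.q b)) + Multiplicative.toAdd (lam (Q.q a)) +
        Multiplicative.toAdd (lam (Q.q (b * a))) := by
    intro x
    have h := congrArg (fun w => Multiplicative.toAdd (lam w)) (Q.law x b a)
    simp only [map_mul, map_one, toAdd_mul, toAdd_one] at h
    have h2 : (2 : ZMod 2) = 0 := rfl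
    linear_combination h - (Multiplicative.toAdd (lam (Q.q b)) + Multiplicative.toAdd (lam (Q.q a)) +
      Multiplicative.toAdd (lam (Q.q (b * a)))) * h2
  show (Multiplicative.toAdd (lam (Q.q (v * b * a))) + Multiplicative.toAdd (lam (Q.q (v * b)))) +
      (Multiplicative.toAdd (lam (Q.q (v * a))) + Multiplicative.toAdd (lam (Q.q v))) =
    (Multiplicative.toAdd (lam (Q.q (w * b * a))) + Multiplicative.toAdd (lam (Q.q (w * b)))) +
      (Multiplicative.toAdd (lam (Q.q (w * a))) + Multiplicative.toAdd (lam (Q.q w)))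
  rw [key, key]

/-- No two-valued nowhere trivial map on a subgroup of order at least 8. -/
theorem not_two_values [Finite V] (K : Subgroup V) (hK : 8 ≤ Nat.card K) (w1 w2 : W) (h1 : w1 ≠ 1) (h2 : w2 ≠ 1) :
    ¬ ∀ v ∈ K, v ≠ 1 → Q.q v = w1 ∨ Q.q v = w2 := by
  intro h
  obtain ⟨l, hl, hi, hlK, -⟩ := exists_indep Q.sqV K ∅ (by simp) 3 (by simp; omega)
  match l, hl with
  | [a, b, c], _ =>
    simp only [Indep, spn, Finset.mem_union, Finset.mem_image, Finset.mem_singleton, exists_eq_left] at hi
    obtain ⟨ha, hb, hc, -⟩ := hi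
    push Not at ha hb
    have hbc := comm_of_sq Q.sqV b c
    have hcK := hlK c (by simp)
    have hbK := hlK b (by simp)
    have haK := hlK a (by simp)
    have hne : a ≠ 1 ∧ b ≠ 1 ∧ c ≠ 1 ∧ a * b ≠ 1 ∧ a * c ≠ 1 ∧ b * c ≠ 1 ∧ a * b * c ≠ 1 := by
      have e : ∀ x y : V, x * y = 1 → x = y := fun x y hxy => mul_right_cancel (hxy.trans (Q.sqV y).symm)
      refine ⟨ha.1.1, hb.1, hc, fun hh => ?_, fun hh => ?_, fun hh => ?_, fun hh => ?_⟩
      · exact ha.2 1 (Or.inl rfl) (by rw [one_mul]; exact (e _ _ hh).symm)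
      · exact ha.1.2 (by rw [one_mul]; exact (e _ _ hh).symm)
      · exact hb.2 (by rw [one_mul]; exact (e _ _ hh).symm)
      · have := e a (b * c) (by rwa [mul_assoc] at hh)
        rw [hbc] at this
        exact ha.2 c (Or.inr (one_mul c)) this.symm
    obtain ⟨n1, n2, n3, n4, n5, n6, n7⟩ := hne
    let M : Subgroup W := Subgroup.zpowers (w1 * w2)
    have hv : ∀ v ∈ K, v ≠ 1 → Q.q v * w1 ∈ M := by
      intro v hv hv1
      rcases h v hv hv1 with e | e
      · rw [e, Q.sqW]; exact one_mem M
      · rw [e, mul_comm]; exact Subgroup.mem_zpowers _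
    have hprod := mul_mem (mul_mem (mul_mem (mul_mem (mul_mem (mul_mem
      (hv _ (mul_mem (mul_mem haK hbK) hcK) n7) (hv _ (mul_mem haK hbK) n4)) (hv _ (mul_mem haK hcK) n5))
      (hv _ (mul_mem hbK hcK) n6)) (hv _ haK n1)) (hv _ hbK n2)) (hv _ hcK n3)
    have hl' := Q.law a b c
    have hw : w1 ∈ M := by
      convert hprod using 1
      calc w1 = 1 * ((w1 * w1) * (w1 * w1) * (w1 * w1) * w1) := by simp [Q.sqW]
        _ = _ := by rw [← hl']; ac_rfl
    obtain ⟨k, hk⟩ := Subgroup.mem_zpowers_iff.1 hw
    have h2' : (w1 * w2) ^ (2 : ℤ) = 1 := by rw [zpow_two, Q.sqW]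
    rcases Int.even_or_odd k with ⟨j, rfl⟩ | ⟨j, rfl⟩
    · rw [← two_mul, zpow_mul, h2', one_zpow] at hk
      exact h1 hk.symm
    · rw [zpow_add, zpow_mul, h2', one_zpow, one_mul, zpow_one] at hk
      exact h2 (mul_eq_left.1 hk)

end QMap

end Cfsg.Agent.ThreeInvol
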